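import Mathlib

set_option autoImplicit false
set_option linter.unusedSectionVars false
set_option linter.unusedVariables false
set_option linter.unusedSimpArgs false
set_option linter.style.haveILetI false
set_option maxHeartbeats 1000000

/-! # S3421 (PSL₂(q) by order and spectrum), odd case: shared definitions and basic lemmas.

`Hyp G p q n m`: `q = p^f ≥ 5` odd, `{n, m} = {(q-1)/2, (q+1)/2}` with `n` even (so `m` odd),
`|G| = q · 2n · m`, every element order divides `p`, `n` or `m`, and `n`, `m` are element orders. -/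

namespace Cfsg.Agent.Lib.Helper5.OS

structure Hyp (G : Type*) [Group G] (p q n m : ℕ) : Prop where
  pp : p.Prime
  p2 : p ≠ 2
  qpow : ∃ f : ℕ, q = p ^ f
  q5 : 5 ≤ q
  sum : n + m = q
  diff : n + 1 = m ∨ m + 1 = n
  neven : Even n
  card : Nat.card G = q * (2 * n) * m
  spec : ∀ g : G, orderOf g ∣ p ∨ orderOf g ∣ n ∨ orderOf g ∣ m
  exn : ∃ a : G, orderOf a = n
  exm : ∃ b : G, orderOf b = m

/-- data of the cyclic Hall subgroup `M` of order `m` with dihedral normalizer -/
structure MData (G : Type*) [Group G] (m : ℕ) (M : Subgroup G) (z : G) : Prop where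
  cyc : IsCyclic M
  card : Nat.card M = m
  cent : ∀ y ∈ M, y ≠ 1 → Subgroup.centralizer ({y} : Set G) = M
  cardN : Nat.card (Subgroup.normalizer (M : Set G)) = 2 * m
  zN : z ∈ Subgroup.normalizer (M : Set G)
  zo : orderOf z = 2
  zinv : ∀ y ∈ M, z * y * z⁻¹ = y⁻¹

/-- data of the involution centralizer: `a0` of order `n`, `t` the involution of `⟨a0⟩`,
`|C(t)| = 2n`, `T` a Sylow 2-subgroup inside `C(t)` meeting `⟨a0⟩` in a subgroup of index 2 -/
structure CData (G : Type*) [Group G] (n : ℕ) (t a0 : G) (T : Sylow 2 G) : Prop where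
  ha0 : orderOf a0 = n
  ht : orderOf t = 2
  tA : t ∈ Subgroup.zpowers a0
  cardC : Nat.card (Subgroup.centralizer ({t} : Set G)) = 2 * n
  TC : (T : Subgroup G) ≤ Subgroup.centralizer ({t} : Set G)
  TA : Nat.card ↥((T : Subgroup G) ⊓ Subgroup.zpowers a0) * 2 = Nat.card (T : Subgroup G)
  cent : ∀ y ∈ Subgroup.zpowers a0, y ≠ 1 →
    Subgroup.centralizer ({y} : Set G) = Subgroup.zpowers a0 ∨
    Subgroup.centralizer ({y} : Set G) = Subgroup.centralizer ({t} : Set G)

variable {G : Type*} [Group G] {p q n m : ℕ}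

namespace Hyp

theorem n_ge (h : Hyp G p q n m) : 2 ≤ n := by
  obtain ⟨k, hk⟩ := h.neven
  have := h.sum; have := h.q5
  rcases h.diff with d | d <;> omega

theorem m_ge (h : Hyp G p q n m) : 3 ≤ m := by
  obtain ⟨k, hk⟩ := h.neven
  have := h.sum; have := h.q5
  rcases h.diff with d | d <;> omega

theorem m_odd (h : Hyp G p q n m) : Odd m := by
  obtain ⟨k, hk⟩ := h.neven
  rcases h.diff with d | d
  · exact ⟨k, by omega⟩
  · have := h.m_ge
    exact ⟨k - 1, by omega⟩

theorem q_odd (h : Hyp G p q n m) : Odd q := by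
  have := h.sum
  rcases h.diff with d | d
  · exact ⟨n, by omega⟩
  · exact ⟨m, by omega⟩

theorem cop_nm (h : Hyp G p q n m) : Nat.Coprime n m := by
  rcases h.diff with d | d
  · rw [← d]; simp
  · rw [← d]; simp

theorem cop_qn (h : Hyp G p q n m) : Nat.Coprime q n := by
  rw [← h.sum]
  have := h.cop_nm
  simpa [Nat.coprime_comm] using this

theorem cop_qm (h : Hyp G p q n m) : Nat.Coprime q m := by
  rw [← h.sum]
  have := h.cop_nm
  simpa using this

theorem cop_q2 (h : Hyp G p q n m) : Nat.Coprime q 2 :=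
  Nat.coprime_two_right.mpr h.q_odd

theorem cop_m2 (h : Hyp G p q n m) : Nat.Coprime m 2 :=
  Nat.coprime_two_right.mpr h.m_odd

theorem cop_q_2n (h : Hyp G p q n m) : Nat.Coprime q (2 * n) :=
  Nat.Coprime.mul_right h.cop_q2 h.cop_qn

theorem cop_2n_m (h : Hyp G p q n m) : Nat.Coprime (2 * n) m :=
  Nat.Coprime.mul_left h.cop_m2.symm h.cop_nm

theorem p_dvd_q (h : Hyp G p q n m) : p ∣ q := by
  obtain ⟨f, hf⟩ := h.qpow
  rcases Nat.eq_zero_or_pos f with h0 | hpos
  · have := h.q5; rw [hf, h0, pow_zero] at this; omega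
  · rw [hf]; exact dvd_pow_self p hpos.ne'

theorem cop_pn (h : Hyp G p q n m) : Nat.Coprime p n :=
  Nat.Coprime.coprime_dvd_left h.p_dvd_q h.cop_qn

theorem cop_pm (h : Hyp G p q n m) : Nat.Coprime p m :=
  Nat.Coprime.coprime_dvd_left h.p_dvd_q h.cop_qm

theorem four_nm (h : Hyp G p q n m) : 4 * n * m + 1 = q * q := by
  rw [← h.sum]
  rcases h.diff with d | d
  · rw [← d]; ring
  · rw [← d]; ring

theorem two_n_q_modEq (h : Hyp G p q n m) : 2 * n * q ≡ 2 [MOD m] := by
  have hs := h.sum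
  rcases h.diff with d | d
  · -- m = n + 1, q = 2n+1
    have hn := h.n_ge
    have e : 2 * n * q = m * (4 * n - 2) + 2 := by
      subst d; subst hs
      obtain ⟨k, rfl⟩ : ∃ k, n = k + 2 := ⟨n - 2, by omega⟩
      have : 4 * (k + 2) - 2 = 4 * k + 6 := by omega
      rw [this]; ring
    rw [e]
    show (m * (4 * n - 2) + 2) % m = 2 % m
    rw [Nat.mul_add_mod]
  · have e : 2 * n * q = m * (4 * m + 6) + 2 := by
      subst d; subst hs; ring
    rw [e]
    show (m * (4 * m + 6) + 2) % m = 2 % m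
    rw [Nat.mul_add_mod]

theorem q_m_modEq (h : Hyp G p q n m) : q * m ≡ 1 [MOD n] := by
  have hs := h.sum
  rcases h.diff with d | d
  · have e : q * m = n * (2 * n + 3) + 1 := by
      subst d; subst hs; ring
    rw [e]
    show (n * (2 * n + 3) + 1) % n = 1 % n
    rw [Nat.mul_add_mod]
  · have hm := h.m_ge
    have e : q * m = n * (2 * n - 3) + 1 := by
      subst d; subst hs
      obtain ⟨k, rfl⟩ : ∃ k, m = k + 3 := ⟨m - 3, by omega⟩
      have : 2 * (k + 3 + 1) - 3 = 2 * k + 5 := by omega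
      rw [this]; ring
    rw [e]
    show (n * (2 * n - 3) + 1) % n = 1 % n
    rw [Nat.mul_add_mod]

end Hyp

/-- commuting elements of distinct prime orders give an element of product order -/
theorem exists_orderOf_mul_of_dvd_card_centralizer [Finite G] {y : G} {s r : ℕ} (hs : s.Prime)
    (hr : r.Prime) (hsr : s ≠ r) (hsy : s ∣ orderOf y)
    (hrC : r ∣ Nat.card (Subgroup.centralizer ({y} : Set G))) : ∃ g : G, orderOf g = s * r := by
  haveI := Fact.mk hr
  obtain ⟨c, hc⟩ := exists_prime_orderOf_dvd_card' r hrC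
  have hcy : (c : G) * y = y * (c : G) := (Subgroup.mem_centralizer_singleton_iff.1 c.2)
  have hco : orderOf (c : G) = r := by rw [Subgroup.orderOf_coe]; exact hc
  have hy0 : 0 < orderOf y := orderOf_pos y
  set y' := y ^ (orderOf y / s) with hy'
  have hy'o : orderOf y' = s := by
    rw [hy', orderOf_pow' y (by
      intro h0
      have := Nat.div_eq_zero_iff.1 h0
      rcases this with h1 | h1
      · exact hs.ne_zero h1
      · exact absurd (Nat.le_of_dvd hy0 hsy) (by omega))]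
    rw [Nat.gcd_eq_right (Nat.div_dvd_of_dvd hsy)]
    exact Nat.div_div_self hsy hy0.ne'
  have hcomm : Commute y' (c : G) := by
    rw [hy']
    exact (Commute.pow_left (show Commute y (c : G) from hcy.symm) _)
  refine ⟨y' * c, ?_⟩
  rw [hcomm.orderOf_mul_eq_mul_orderOf_of_coprime (by
    rw [hy'o, hco]; exact (Nat.coprime_primes hs hr).2 hsr), hy'o, hco]

namespace Hyp

variable [Finite G]

/-- primes dividing the centralizer of a nontrivial `m`-element divide `m` -/
theorem prime_dvd_m (h : Hyp G p q n m) {y : G} (hy : y ≠ 1) (hym : orderOf y ∣ m) {r : ℕ}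
    (hr : r.Prime) (hrC : r ∣ Nat.card (Subgroup.centralizer ({y} : Set G))) : r ∣ m := by
  have hy1 : orderOf y ≠ 1 := by rwa [Ne, orderOf_eq_one_iff]
  obtain ⟨s, hs, hsy⟩ := Nat.exists_prime_and_dvd hy1
  have hsm : s ∣ m := hsy.trans hym
  by_cases hsr : s = r
  · rw [← hsr]; exact hsm
  obtain ⟨g, hg⟩ := exists_orderOf_mul_of_dvd_card_centralizer hs hr hsr hsy hrC
  rcases h.spec g with hd | hd | hd <;> rw [hg] at hd
  · exfalso
    have hsp : s ∣ p := (dvd_mul_right s r).trans hd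
    have : Nat.Coprime p m := h.cop_pm
    have h1 : s ∣ Nat.gcd p m := Nat.dvd_gcd hsp hsm
    rw [this] at h1
    exact hs.one_lt.ne' (Nat.dvd_one.1 h1)
  · exfalso
    have hsn : s ∣ n := (dvd_mul_right s r).trans hd
    have h1 : s ∣ Nat.gcd n m := Nat.dvd_gcd hsn hsm
    rw [h.cop_nm] at h1
    exact hs.one_lt.ne' (Nat.dvd_one.1 h1)
  · exact (dvd_mul_left r s).trans hd

theorem prime_dvd_n (h : Hyp G p q n m) {y : G} (hy : y ≠ 1) (hyn : orderOf y ∣ n) {r : ℕ}
    (hr : r.Prime) (hrC : r ∣ Nat.card (Subgroup.centralizer ({y} : Set G))) : r ∣ n := by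
  have hy1 : orderOf y ≠ 1 := by rwa [Ne, orderOf_eq_one_iff]
  obtain ⟨s, hs, hsy⟩ := Nat.exists_prime_and_dvd hy1
  have hsn : s ∣ n := hsy.trans hyn
  by_cases hsr : s = r
  · rw [← hsr]; exact hsn
  obtain ⟨g, hg⟩ := exists_orderOf_mul_of_dvd_card_centralizer hs hr hsr hsy hrC
  rcases h.spec g with hd | hd | hd <;> rw [hg] at hd
  · exfalso
    have hsp : s ∣ p := (dvd_mul_right s r).trans hd
    have h1 : s ∣ Nat.gcd p n := Nat.dvd_gcd hsp hsn
    rw [h.cop_pn] at h1
    exact hs.one_lt.ne' (Nat.dvd_one.1 h1)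
  · exact (dvd_mul_left r s).trans hd
  · exfalso
    have hsm : s ∣ m := (dvd_mul_right s r).trans hd
    have h1 : s ∣ Nat.gcd n m := Nat.dvd_gcd hsn hsm
    rw [h.cop_nm] at h1
    exact hs.one_lt.ne' (Nat.dvd_one.1 h1)

theorem prime_eq_p (h : Hyp G p q n m) {y : G} (hy : y ≠ 1) (hyp : orderOf y ∣ p) {r : ℕ}
    (hr : r.Prime) (hrC : r ∣ Nat.card (Subgroup.centralizer ({y} : Set G))) : r = p := by
  have hy1 : orderOf y ≠ 1 := by rwa [Ne, orderOf_eq_one_iff]
  have hyo : orderOf y = p := ((Nat.dvd_prime h.pp).1 hyp).resolve_left hy1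
  by_contra hne
  obtain ⟨g, hg⟩ := exists_orderOf_mul_of_dvd_card_centralizer h.pp hr (Ne.symm hne) (by rw [hyo]) hrC
  rcases h.spec g with hd | hd | hd <;> rw [hg] at hd
  · have : p * r ≤ p := Nat.le_of_dvd h.pp.pos hd
    have h2 := hr.two_le
    have h3 := h.pp.pos
    nlinarith
  · have hpn : p ∣ n := (dvd_mul_right p r).trans hd
    have h1 : p ∣ Nat.gcd p n := Nat.dvd_gcd dvd_rfl hpn
    rw [h.cop_pn] at h1
    exact h.pp.one_lt.ne' (Nat.dvd_one.1 h1)
  · have hpm : p ∣ m := (dvd_mul_right p r).trans hd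
    have h1 : p ∣ Nat.gcd p m := Nat.dvd_gcd dvd_rfl hpm
    rw [h.cop_pm] at h1
    exact h.pp.one_lt.ne' (Nat.dvd_one.1 h1)

/-- the centralizer of a nontrivial element of order dividing `m` has order dividing `m` -/
theorem card_centralizer_dvd_m (h : Hyp G p q n m) {y : G} (hy : y ≠ 1) (hym : orderOf y ∣ m) :
    Nat.card (Subgroup.centralizer ({y} : Set G)) ∣ m := by
  have hd : Nat.card (Subgroup.centralizer ({y} : Set G)) ∣ q * (2 * n) * m := by
    rw [← h.card]; exact Subgroup.card_subgroup_dvd_card _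
  refine Nat.Coprime.dvd_of_dvd_mul_left ?_ hd
  refine Nat.Coprime.symm (Nat.coprime_of_dvd ?_) |>.symm
  intro r hr hr1 hr2
  have hrm := h.prime_dvd_m hy hym hr hr1
  have hc : Nat.Coprime (q * (2 * n)) m := Nat.Coprime.mul_left h.cop_qm h.cop_2n_m
  have h1 : r ∣ Nat.gcd (q * (2 * n)) m := Nat.dvd_gcd hr2 hrm
  rw [hc] at h1
  exact hr.one_lt.ne' (Nat.dvd_one.1 h1)

/-- the centralizer of a nontrivial element of order dividing `n` has order dividing `2n` -/
theorem card_centralizer_dvd_2n (h : Hyp G p q n m) {y : G} (hy : y ≠ 1) (hyn : orderOf y ∣ n) :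
    Nat.card (Subgroup.centralizer ({y} : Set G)) ∣ 2 * n := by
  have hd : Nat.card (Subgroup.centralizer ({y} : Set G)) ∣ (q * m) * (2 * n) := by
    have : q * m * (2 * n) = q * (2 * n) * m := by ring
    rw [this, ← h.card]; exact Subgroup.card_subgroup_dvd_card _
  refine Nat.Coprime.dvd_of_dvd_mul_left ?_ hd
  refine Nat.Coprime.symm (Nat.coprime_of_dvd ?_) |>.symm
  intro r hr hr1 hr2
  have hrn := h.prime_dvd_n hy hyn hr hr1
  have hc : Nat.Coprime (q * m) n := Nat.Coprime.mul_left h.cop_qn h.cop_nm.symm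
  have h1 : r ∣ Nat.gcd (q * m) n := Nat.dvd_gcd hr2 hrn
  rw [hc] at h1
  exact hr.one_lt.ne' (Nat.dvd_one.1 h1)

/-- the centralizer of a nontrivial `p`-element has order dividing `q` -/
theorem card_centralizer_dvd_q (h : Hyp G p q n m) {y : G} (hy : y ≠ 1) (hyp : orderOf y ∣ p) :
    Nat.card (Subgroup.centralizer ({y} : Set G)) ∣ q := by
  have hd : Nat.card (Subgroup.centralizer ({y} : Set G)) ∣ ((2 * n) * m) * q := by
    have : (2 * n) * m * q = q * (2 * n) * m := by ring
    rw [this, ← h.card]; exact Subgroup.card_subgroup_dvd_card _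
  refine Nat.Coprime.dvd_of_dvd_mul_left ?_ hd
  refine Nat.Coprime.symm (Nat.coprime_of_dvd ?_) |>.symm
  intro r hr hr1 hr2
  have hrp := h.prime_eq_p hy hyp hr hr1
  have hc : Nat.Coprime ((2 * n) * m) q := (Nat.Coprime.mul_left h.cop_q_2n.symm h.cop_qm.symm)
  have h1 : r ∣ Nat.gcd ((2 * n) * m) q := Nat.dvd_gcd hr2 (hrp ▸ h.p_dvd_q)
  rw [hc] at h1
  exact hr.one_lt.ne' (Nat.dvd_one.1 h1)

end Hyp

end Cfsg.Agent.Lib.Helper5.OS
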