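import Mathlib
import Cfsg.Agent.Lib.Helper5.OS.Defs

set_option autoImplicit false
set_option linter.unusedSectionVars false
set_option linter.unusedVariables false
set_option linter.unusedSimpArgs false
set_option linter.style.haveILetI false
set_option maxHeartbeats 1000000

/-! # S3421, odd case: basic consequences of `CData` -/

namespace Cfsg.Agent.Lib.Helper5.OS

variable {G : Type*} [Group G] [Finite G] {p q n m : ℕ}

theorem card_mul_relIndex_of_le (H K : Subgroup G) (h : H ≤ K) :
    Nat.card H * H.relIndex K = Nat.card K := by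
  have := (H.subgroupOf K).card_mul_index
  rw [Nat.card_congr (Subgroup.subgroupOfEquivOfLe h).toEquiv] at this
  exact this

theorem orderOf_conj_eq (u y : G) : orderOf (u * y * u⁻¹) = orderOf y := by
  have := (MulAut.conj u).orderOf_eq y
  rwa [MulAut.conj_apply] at this

namespace CData

variable {t a0 : G} {T : Sylow 2 G}

theorem zpowers_le (hC : CData G n t a0 T) :
    Subgroup.zpowers a0 ≤ Subgroup.centralizer ({t} : Set G) := by
  intro y hy
  rw [Subgroup.mem_centralizer_singleton_iff]
  obtain ⟨i, rfl⟩ := Subgroup.mem_zpowers_iff.1 hy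
  obtain ⟨j, hj⟩ := Subgroup.mem_zpowers_iff.1 hC.tA
  rw [← hj, ← zpow_add, ← zpow_add, add_comm]

theorem relIndex_zpowers (h : Hyp G p q n m) (hC : CData G n t a0 T) :
    (Subgroup.zpowers a0).relIndex (Subgroup.centralizer ({t} : Set G)) = 2 := by
  have h1 := card_mul_relIndex_of_le _ _ hC.zpowers_le
  rw [hC.cardC, Nat.card_zpowers, hC.ha0] at h1
  have hn := h.n_ge
  have : n * (Subgroup.zpowers a0).relIndex (Subgroup.centralizer ({t} : Set G)) = n * 2 := by
    rw [h1]; ring
  exact Nat.eq_of_mul_eq_mul_left (by omega) this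

/-- `⟨a0⟩` is normalized by `C(t)` -/
theorem conj_mem (h : Hyp G p q n m) (hC : CData G n t a0 T) {c : G}
    (hc : c ∈ Subgroup.centralizer ({t} : Set G)) {y : G} (hy : y ∈ Subgroup.zpowers a0) :
    c * y * c⁻¹ ∈ Subgroup.zpowers a0 := by
  have hidx : ((Subgroup.zpowers a0).subgroupOf (Subgroup.centralizer ({t} : Set G))).index = 2 :=
    hC.relIndex_zpowers h
  have hnorm := Subgroup.normal_of_index_eq_two hidx
  have := hnorm.conj_mem ⟨y, hC.zpowers_le hy⟩ (by
    rw [Subgroup.mem_subgroupOf]; exact hy) ⟨c, hc⟩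
  rw [Subgroup.mem_subgroupOf] at this
  simpa using this

/-- `t` lies in the Sylow 2-subgroup `T` -/
theorem t_mem (hC : CData G n t a0 T) : t ∈ (T : Subgroup G) := by
  haveI : Fact (Nat.Prime 2) := ⟨Nat.prime_two⟩
  have hle : (T : Subgroup G) ≤ Subgroup.normalizer ((Subgroup.zpowers t : Subgroup G) : Set G) := by
    intro s hs
    rw [Subgroup.mem_normalizer_iff]
    intro x
    have hst : s * t = t * s := Subgroup.mem_centralizer_singleton_iff.1 (hC.TC hs)
    have hsx : ∀ x ∈ Subgroup.zpowers t, s * x * s⁻¹ = x := by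
      intro x hx
      obtain ⟨i, rfl⟩ := Subgroup.mem_zpowers_iff.1 hx
      have : Commute s (t ^ i) := (show Commute s t from hst).zpow_right i
      rw [this.eq, mul_inv_cancel_right]
    constructor
    · intro hx; rw [hsx x hx]; exact hx
    · intro hx
      have h3 := hsx _ hx
      have h4 : s * x * s⁻¹ = x := mul_left_cancel (mul_right_cancel h3)
      rw [← h4]; exact hx
  have hPt : IsPGroup 2 ↥(Subgroup.zpowers t) := by
    refine IsPGroup.of_card (n := 1) ?_
    rw [Nat.card_zpowers, hC.ht, pow_one]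
  have hK : IsPGroup 2 ↥((T : Subgroup G) ⊔ Subgroup.zpowers t) :=
    IsPGroup.to_sup_of_normal_right' T.isPGroup' hPt hle
  have hKT : (T : Subgroup G) ⊔ Subgroup.zpowers t = T := T.is_maximal' hK le_sup_left
  rw [← hKT]
  exact Subgroup.mem_sup_right (Subgroup.mem_zpowers t)

theorem t_mem_inf (hC : CData G n t a0 T) : t ∈ (T : Subgroup G) ⊓ Subgroup.zpowers a0 :=
  ⟨hC.t_mem, hC.tA⟩

theorem two_le_card_inf (hC : CData G n t a0 T) :
    2 ≤ Nat.card ↥((T : Subgroup G) ⊓ Subgroup.zpowers a0) := by
  have := Subgroup.orderOf_dvd_natCard _ hC.t_mem_inf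
  rw [hC.ht] at this
  exact Nat.le_of_dvd Nat.card_pos this

end CData

end Cfsg.Agent.Lib.Helper5.OS
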