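import Mathlib
import Cfsg.Agent.Lib.Helper5.OS.Defs
import Cfsg.Agent.Lib.Helper5.OS.Basic
import Cfsg.Agent.Lib.Helper9.OSP1
import Cfsg.Agent.Lib.Helper9.OSP2
import Cfsg.Agent.Lib.Helper1.OSP3
import Cfsg.Agent.Lib.Helper7.OSP4
import Cfsg.Agent.Lib.Helper6.OSP5
import Cfsg.Agent.Lib.Helper9.OSP6a
import Cfsg.Agent.Lib.Helper9.OSP6b
import Cfsg.Agent.Lib.Helper4.OSP7a
import Cfsg.Agent.Lib.Helper4.OSP7b
import Cfsg.Agent.Lib.Helper3.OSP7c
import Cfsg.Agent.Lib.Helper6.OSP8a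
import Cfsg.Agent.Lib.Helper6.OSP8b

set_option autoImplicit false
set_option linter.unusedSectionVars false
set_option linter.unusedVariables false
set_option linter.unusedSimpArgs false
set_option linter.style.haveILetI false
set_option maxHeartbeats 1000000

/-! # S3421, odd case: assembly of the pieces -/

namespace Cfsg.Agent.Lib.Helper5.OS


variable {G : Type*} [Group G] [Finite G] {p q n m : ℕ}


/-- P7d: `u` inverts the odd-order elements of `⟨a0⟩` -/
theorem conj_eq_inv_odd (h : Hyp G p q n m) [IsSimpleGroup G]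
    {t a0 : G} {T : Sylow 2 G} (hC : CData G n t a0 T) {u : G} (huT : u ∈ (T : Subgroup G))
    (huA : u ∉ Subgroup.zpowers a0) (hu : orderOf u = 2)
    (hinvT : ∀ x ∈ (T : Subgroup G) ⊓ Subgroup.zpowers a0, u * x * u⁻¹ = x⁻¹) :
    ∀ y ∈ Subgroup.zpowers a0, Odd (orderOf y) → u * y * u⁻¹ = y⁻¹ := by
  have huC : u ∈ Subgroup.centralizer ({t} : Set G) := hC.TC huT
  have hu2 : u * u = 1 := by
    have := pow_orderOf_eq_one u
    rw [hu, pow_two] at this; exact this
  have huinv : u⁻¹ = u := inv_eq_of_mul_eq_one_left hu2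
  -- step 1: no nontrivial odd fixed points
  have hfix : ∀ y ∈ Subgroup.zpowers a0, Odd (orderOf y) → u * y * u⁻¹ = y → y = 1 := by
    by_cases hcase : 4 ≤ Nat.card ↥((T : Subgroup G) ⊓ Subgroup.zpowers a0) ∨
        ∃ y ∈ Subgroup.zpowers a0, Odd (orderOf y) ∧ u * y * u⁻¹ ≠ y
    · have hNC := Cfsg.Agent.Lib.Helper4.OS.normalizer_centralizer_eq h hC huT huA hu hinvT hcase
      exact Cfsg.Agent.Lib.Helper4.OS.no_fixed_of_normalizer_eq h hC huT huA hu hNC
    · push Not at hcase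
      obtain ⟨hlt, hall⟩ := hcase
      have htmem : t ∈ (T : Subgroup G) ⊓ Subgroup.zpowers a0 := hC.t_mem_inf
      have h2dvd : 2 ∣ Nat.card ↥((T : Subgroup G) ⊓ Subgroup.zpowers a0) := by
        have := Subgroup.orderOf_dvd_natCard _ htmem
        rwa [hC.ht] at this
      have hT2 : Nat.card ↥((T : Subgroup G) ⊓ Subgroup.zpowers a0) = 2 := by
        obtain ⟨k, hk⟩ := h2dvd
        have hpos : 0 < Nat.card ↥((T : Subgroup G) ⊓ Subgroup.zpowers a0) := Nat.card_pos
        omega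
      have hall' : ∀ y ∈ Subgroup.zpowers a0, Odd (orderOf y) → u * y * u⁻¹ = y := by
        intro y hy hyo
        by_contra hne
        exact hne (hall y hy hyo)
      intro y hy hyo _
      exact Cfsg.Agent.Lib.Helper3.OS.no_fixed_special h hC huT huA hu hT2 hall' y hy hyo
  -- step 2: inversion
  intro y hy hyo
  have hφ : u * y * u⁻¹ ∈ Subgroup.zpowers a0 := hC.conj_mem h huC hy
  set w := y * (u * y * u⁻¹) with hw
  have hwA : w ∈ Subgroup.zpowers a0 := Subgroup.mul_mem _ hy hφ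
  have hcomm : Commute y (u * y * u⁻¹) := by
    obtain ⟨i, hi⟩ := Subgroup.mem_zpowers_iff.1 hy
    obtain ⟨j, hj⟩ := Subgroup.mem_zpowers_iff.1 hφ
    have hc : Commute (a0 ^ i) (a0 ^ j) := (Commute.refl a0).zpow_zpow i j
    rw [hi, hj] at hc
    exact hc
  have hwfix : u * w * u⁻¹ = w := by
    rw [hw, huinv]
    have e1 : u * (y * (u * y * u)) * u = (u * y * u) * y * (u * u) := by group
    rw [e1, hu2, mul_one]
    have := hcomm.eq
    rw [huinv] at this
    exact this.symm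
  have hwodd : Odd (orderOf w) := by
    have hd : orderOf w ∣ orderOf y * orderOf (u * y * u⁻¹) := hcomm.orderOf_mul_dvd_mul_orderOf
    have hconj : orderOf (u * y * u⁻¹) = orderOf y := orderOf_conj_eq u y
    rw [hconj] at hd
    exact (Odd.mul hyo hyo).of_dvd_nat hd
  have hw1 : w = 1 := hfix w hwA hwodd hwfix
  rw [hw] at hw1
  exact (eq_inv_of_mul_eq_one_right hw1)

/-- the odd case of S3421: `G` is `PSL₂` over some finite field of odd order -/
theorem odd_main (h : Hyp G p q n m) :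
    ∃ (F : Type) (_ : Field F) (_ : Fintype F), Odd (Fintype.card F) ∧
      Nonempty (G ≃* Matrix.ProjectiveSpecialLinearGroup (Fin 2) F) := by
  obtain ⟨M, z, hM⟩ := Cfsg.Agent.Lib.Helper9.OS.exists_MData h
  have hnil := Cfsg.Agent.Lib.Helper9.OS.no_normal_nilpotent h
  have h2 := Cfsg.Agent.Lib.Helper1.OS.no_index_two h hM hnil
  haveI := Cfsg.Agent.Lib.Helper7.OS.isSimpleGroup_of h hM hnil h2
  obtain ⟨t, a0, T, hC⟩ := Cfsg.Agent.Lib.Helper6.OS.exists_CData h
  obtain ⟨u, huT, huA, hu⟩ := Cfsg.Agent.Lib.Helper9.OS.exists_invol_outside h h2 hC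
  have hinvT := Cfsg.Agent.Lib.Helper9.OS.conj_eq_inv_two h h2 hC huT huA hu
  have hinvO := conj_eq_inv_odd h hC huT huA hu hinvT
  obtain ⟨hd2, hdih⟩ := Cfsg.Agent.Lib.Helper6.OS.sylow_dihedral h hC huT huA hu hinvT
  exact Cfsg.Agent.Lib.Helper6.OS.exists_psl_of_data h hC huT huA hu hinvT hinvO hdih hd2

end Cfsg.Agent.Lib.Helper5.OS
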