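import Mathlib
import Cfsg.Agent.Lib.Helper5.OS.Basic

set_option autoImplicit false
set_option linter.unusedSectionVars false
set_option linter.unusedVariables false
set_option linter.unusedSimpArgs false
set_option linter.style.haveILetI false
set_option maxHeartbeats 1000000

/-! # S3421 P7c Q3: in the abelian special case `|N(C(t))| = 6n` -/

namespace Cfsg.Agent.Lib.Helper5.OS

variable {G : Type*} [Group G] [Finite G] {p q n m : ℕ}

/-- a 2-element commuting with a Sylow 2-subgroup lies in it -/
theorem mem_sylow_of_commute (T : Sylow 2 G) (x : G) (hx2 : IsPGroup 2 ↥(Subgroup.zpowers x))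
    (hcomm : ∀ s ∈ (T : Subgroup G), s * x = x * s) : x ∈ (T : Subgroup G) := by
  haveI : Fact (Nat.Prime 2) := ⟨Nat.prime_two⟩
  have hle : (T : Subgroup G) ≤ Subgroup.normalizer ((Subgroup.zpowers x : Subgroup G) : Set G) := by
    intro s hs
    rw [Subgroup.mem_normalizer_iff]
    intro y
    have hst : s * x = x * s := hcomm s hs
    have hsx : ∀ y ∈ Subgroup.zpowers x, s * y * s⁻¹ = y := by
      intro y hy
      obtain ⟨i, rfl⟩ := Subgroup.mem_zpowers_iff.1 hy
      have : Commute s (x ^ i) := (show Commute s x from hst).zpow_right i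
      rw [this.eq, mul_inv_cancel_right]
    constructor
    · intro hy; rw [hsx y hy]; exact hy
    · intro hy
      have h3 := hsx _ hy
      have h4 : s * y * s⁻¹ = y := mul_left_cancel (mul_right_cancel h3)
      rw [← h4]; exact hy
  have hK : IsPGroup 2 ↥((T : Subgroup G) ⊔ Subgroup.zpowers x) :=
    IsPGroup.to_sup_of_normal_right' T.isPGroup' hx2 hle
  have hKT : (T : Subgroup G) ⊔ Subgroup.zpowers x = T := T.is_maximal' hK le_sup_left
  rw [← hKT]
  exact Subgroup.mem_sup_right (Subgroup.mem_zpowers x)

theorem card_normalizer_centralizer (h : Hyp G p q n m) [IsSimpleGroup G]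
    {t a0 : G} {T : Sylow 2 G} (hC : CData G n t a0 T) {u : G} (huT : u ∈ (T : Subgroup G))
    (huA : u ∉ Subgroup.zpowers a0) (hu : orderOf u = 2)
    (hT2 : Nat.card ↥((T : Subgroup G) ⊓ Subgroup.zpowers a0) = 2)
    (hcomm : ∀ x ∈ Subgroup.centralizer ({t} : Set G), ∀ y ∈ Subgroup.centralizer ({t} : Set G), x * y = y * x) :
    Nat.card ↥(Subgroup.normalizer ((Subgroup.centralizer ({t} : Set G) : Subgroup G) : Set G)) = 6 * n := by
  classical
  haveI : Fact (Nat.Prime 2) := ⟨Nat.prime_two⟩
  have htT : t ∈ (T : Subgroup G) := hC.t_mem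
  have hTC : (T : Subgroup G) ≤ Subgroup.centralizer ({t} : Set G) := hC.TC
  have hT4 : Nat.card (T : Subgroup G) = 4 := by rw [← hC.TA, hT2]
  -- centralizer T = C(t)
  have hCT : Subgroup.centralizer (((T : Subgroup G) : Subgroup G) : Set G) =
      Subgroup.centralizer ({t} : Set G) := by
    apply le_antisymm
    · intro g hg
      rw [Subgroup.mem_centralizer_singleton_iff]
      exact ((Subgroup.mem_centralizer_iff.1 hg) t htT).symm
    · intro c hc
      rw [Subgroup.mem_centralizer_iff]
      intro s hs
      exact hcomm s (hTC hs) c hc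
  -- 2-elements of C(t) lie in T
  have h2mem : ∀ x ∈ Subgroup.centralizer ({t} : Set G), IsPGroup 2 ↥(Subgroup.zpowers x) →
      x ∈ (T : Subgroup G) := by
    intro x hx hx2
    exact mem_sylow_of_commute T x hx2 (fun s hs => hcomm s (hTC hs) x hx)
  -- conjugates of elements of T are 2-elements
  have hconj2 : ∀ (g s : G), s ∈ (T : Subgroup G) → IsPGroup 2 ↥(Subgroup.zpowers (g * s * g⁻¹)) := by
    intro g s hs
    have hso : ∃ k : ℕ, orderOf s = 2 ^ k := by
      obtain ⟨k, hk⟩ := (T.isPGroup' ⟨s, hs⟩)
      have : s ^ 2 ^ k = 1 := by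
        have := congrArg Subtype.val hk
        simpa using this
      obtain ⟨j, _, hj⟩ := (Nat.dvd_prime_pow Nat.prime_two).1 (orderOf_dvd_of_pow_eq_one this)
      exact ⟨j, hj⟩
    obtain ⟨k, hk⟩ := hso
    refine IsPGroup.of_card (n := k) ?_
    rw [Nat.card_zpowers, orderOf_conj_eq, hk]
  -- N(C(t)) = N(T)
  have hNeq : Subgroup.normalizer ((Subgroup.centralizer ({t} : Set G) : Subgroup G) : Set G) =
      Subgroup.normalizer (((T : Subgroup G) : Subgroup G) : Set G) := by
    apply le_antisymm
    · -- N(C) ≤ N(T)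
      have key : ∀ g ∈ Subgroup.normalizer ((Subgroup.centralizer ({t} : Set G) : Subgroup G) : Set G),
          ∀ s ∈ (T : Subgroup G), g * s * g⁻¹ ∈ (T : Subgroup G) := by
        intro g hg s hs
        have h1 : g * s * g⁻¹ ∈ Subgroup.centralizer ({t} : Set G) :=
          ((Subgroup.mem_normalizer_iff.1 hg) s).1 (hTC hs)
        exact h2mem _ h1 (hconj2 g s hs)
      intro g hg
      rw [Subgroup.mem_normalizer_iff]
      intro s
      constructor
      · exact key g hg s
      · intro hs
        have hginv := Subgroup.inv_mem _ hg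
        have := key g⁻¹ hginv _ hs
        have e : g⁻¹ * (g * s * g⁻¹) * g⁻¹⁻¹ = s := by group
        rwa [e] at this
    · -- N(T) ≤ N(centralizer T)
      have key : ∀ g ∈ Subgroup.normalizer (((T : Subgroup G) : Subgroup G) : Set G),
          ∀ c ∈ Subgroup.centralizer ({t} : Set G), g * c * g⁻¹ ∈ Subgroup.centralizer ({t} : Set G) := by
        intro g hg c hc
        rw [← hCT] at hc ⊢
        rw [Subgroup.mem_centralizer_iff] at hc ⊢
        intro s hs
        have hs' : g⁻¹ * s * g⁻¹⁻¹ ∈ (T : Subgroup G) :=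
          ((Subgroup.mem_normalizer_iff.1 (Subgroup.inv_mem _ hg)) s).1 hs
        have := hc _ hs'
        calc s * (g * c * g⁻¹) = g * ((g⁻¹ * s * g⁻¹⁻¹) * c) * g⁻¹ := by group
          _ = g * (c * (g⁻¹ * s * g⁻¹⁻¹)) * g⁻¹ := by rw [this]
          _ = g * c * g⁻¹ * s := by group
      intro g hg
      rw [Subgroup.mem_normalizer_iff]
      intro c
      constructor
      · exact key g hg c
      · intro hc
        have := key g⁻¹ (Subgroup.inv_mem _ hg) _ hc
        have e : g⁻¹ * (g * c * g⁻¹) * g⁻¹⁻¹ = c := by group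
        rwa [e] at this
  rw [hNeq]
  -- now compute |N(T)|
  set N := Subgroup.normalizer (((T : Subgroup G) : Subgroup G) : Set G) with hNdef
  have hCN : Subgroup.centralizer ({t} : Set G) ≤ N := by
    rw [← hCT]; exact Subgroup.centralizer_le_normalizer _
  -- not N ≤ centralizer T
  have hnot : ¬ N ≤ Subgroup.centralizer (((T : Subgroup G) : Subgroup G) : Set G) := by
    intro hP
    have hcompl := MonoidHom.ker_transferSylow_isComplement' T hP
    have hcard := hcompl.card_mul_card
    rcases (MonoidHom.normal_ker (MonoidHom.transferSylow T hP)).eq_bot_or_eq_top with hb | ht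
    · rw [hb, Subgroup.card_bot, one_mul, hT4, h.card] at hcard
      have hq := h.q5; have hn := h.n_ge; have hm := h.m_ge
      have h1 : 5 * (2 * 2) ≤ q * (2 * n) := Nat.mul_le_mul hq (by omega)
      have h2 : 5 * (2 * 2) * 3 ≤ q * (2 * n) * m := Nat.mul_le_mul h1 hm
      omega
    · rw [ht, Subgroup.card_top, hT4] at hcard
      have : 0 < Nat.card G := Nat.card_pos
      omega
  -- r := relIndex
  set r := (Subgroup.centralizer ({t} : Set G)).relIndex N with hr
  have hmul : Nat.card ↥(Subgroup.centralizer ({t} : Set G)) * r = Nat.card N :=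
    card_mul_relIndex_of_le _ _ hCN
  have hr1 : r ≠ 1 := by
    intro h1
    apply hnot
    rw [hCT]
    exact Subgroup.relIndex_eq_one.1 h1
  -- r is odd
  have hrodd : ¬ 2 ∣ r := by
    intro h2
    have h3 : r ∣ (T : Subgroup G).relIndex N :=
      Subgroup.relIndex_dvd_of_le_left N hTC
    have h4 : (T : Subgroup G).relIndex N ∣ (T : Subgroup G).index :=
      Subgroup.relIndex_dvd_index_of_le Subgroup.le_normalizer
    exact T.not_dvd_index (h2.trans (h3.trans h4))
  -- r ≤ 3 by orbit-stabilizer for the action of N on T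
  have hr3 : r ≤ 3 := by
    let t' : ↥(T : Subgroup G) := ⟨t, htT⟩
    -- stabilizer = C.subgroupOf N
    have hstab : MulAction.stabilizer ↥N t' = (Subgroup.centralizer ({t} : Set G)).subgroupOf N := by
      ext g
      rw [MulAction.mem_stabilizer_iff, Subgroup.mem_subgroupOf,
        Subgroup.mem_centralizer_singleton_iff]
      constructor
      · intro hg
        have := congrArg Subtype.val hg
        have h5 : (g : G) * t * (g : G)⁻¹ = t := this
        calc (g : G) * t = (g : G) * t * (g : G)⁻¹ * g := by group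
          _ = t * g := by rw [h5]
      · intro hg
        apply Subtype.ext
        show (g : G) * t * (g : G)⁻¹ = t
        rw [hg]; group
    have hidx := MulAction.index_stabilizer ↥N t'
    rw [hstab] at hidx
    have hr' : r = (MulAction.orbit ↥N t').ncard := hidx
    have hsub : MulAction.orbit ↥N t' ⊆ Set.univ \ {(1 : ↥(T : Subgroup G))} := by
      rintro x ⟨g, rfl⟩
      refine ⟨Set.mem_univ _, ?_⟩
      intro h1
      have h1' : g • t' = 1 := h1
      have := congrArg Subtype.val h1'
      have h5 : (g : G) * t * (g : G)⁻¹ = 1 := this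
      have ht1' : t = 1 := by
        have := congrArg (fun z => (g : G)⁻¹ * z * g) h5
        simpa [mul_assoc] using this
      have ht1 := hC.ht
      rw [ht1', orderOf_one] at ht1
      omega
    have h6 : (MulAction.orbit ↥N t').ncard ≤ (Set.univ \ {(1 : ↥(T : Subgroup G))}).ncard :=
      Set.ncard_le_ncard hsub (Set.toFinite _)
    have h7 : (Set.univ \ {(1 : ↥(T : Subgroup G))}).ncard = Nat.card ↥(T : Subgroup G) - 1 := by
      rw [Set.ncard_diff_singleton_of_mem (Set.mem_univ _), Set.ncard_univ]
    rw [h7, hT4] at h6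
    omega
  have hr0 : r ≠ 0 := by
    intro h0
    rw [h0, mul_zero] at hmul
    have : 0 < Nat.card N := Nat.card_pos
    omega
  have hr_eq : r = 3 := by
    have : r = 1 ∨ r = 2 ∨ r = 3 := by omega
    rcases this with h1 | h2 | h3
    · exact absurd h1 hr1
    · exfalso; apply hrodd; rw [h2]
    · exact h3
  rw [← hmul, hr_eq, hC.cardC]; ring

end Cfsg.Agent.Lib.Helper5.OS
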